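import Mathlib

set_option autoImplicit false

/-!
# S4316 (derived subgroup bounded under a rank three coprime action): shared definitions (helper71)

The ambient form: `A` elementary abelian of order `q ^ 3` inside a finite group `Γ`, `N` a normal
`q'`-subgroup, and the derived subgroups of the `C_N(a)`, `a ≠ 1`, of order at most `m`.
-/

namespace Cfsg.Agent.Helper71.GS

universe u

/-- the ambient statement, for a candidate bounding function `F` -/
def AmbientStmt (F : ℕ → ℕ → ℕ) : Prop :=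
  ∀ (q m : ℕ) (Γ : Type u) [Group Γ] [Finite Γ] (N A : Subgroup Γ), q.Prime → N.Normal →
    (∀ x ∈ A, ∀ y ∈ A, x * y = y * x) → (∀ a ∈ A, a ^ q = 1) → Nat.card A = q ^ 3 →
    ¬ q ∣ Nat.card N →
    (∀ a ∈ A, a ≠ 1 →
      Nat.card ↥⁅N ⊓ Subgroup.centralizer {a}, N ⊓ Subgroup.centralizer {a}⁆ ≤ m) →
    Nat.card ↥⁅N, N⁆ ≤ F q m

/-- the bounding function: Dietzmann's bound for a normal set of at most `k = q³ m n²` elements of
exponent `m !`, where `n = m ^ (q + 1)` bounds the class sizes. -/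
def gsBound (q m : ℕ) : ℕ :=
  (q ^ 3 * m * (m ^ (q + 1) * m ^ (q + 1)) + 1) ^ (q ^ 3 * m * (m ^ (q + 1) * m ^ (q + 1)) * m.factorial)

end Cfsg.Agent.Helper71.GS
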