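import Mathlib
import Cfsg.Agent.Helper71.GS.Defs
import Cfsg.Agent.Helper24.GS.G8
import Cfsg.Agent.Helper24.GS.G13
import Cfsg.Agent.Helper24.GS.G14
import Cfsg.Agent.Helper29.GS.G3
import Cfsg.Agent.Helper29.GS.G4
import Cfsg.Agent.Helper29.GS.G5
import Cfsg.Agent.Helper12.GS.G7core
import Cfsg.Agent.Helper12.GS.G9
import Cfsg.Agent.Helper12.GS.G12
import Cfsg.Agent.Helper46.GS.G10b
import Cfsg.Agent.Helper59.GS.G2

set_option autoImplicit false

/-!
# S4316: the ambient theorem (helper71)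

Assembly of the pieces G1–G14.
-/

namespace Cfsg.Agent.Helper71.GS

open Subgroup

universe u

theorem ambient : AmbientStmt.{u} gsBound := by
  intro q m Γ _ _ N A hq hNn hcomm hexp hA hqN hm
  classical
  haveI : Fact q.Prime := ⟨hq⟩
  haveI : N.Normal := hNn
  have hnormN : ∀ g : Γ, g ∈ Subgroup.normalizer (N : Set Γ) := by
    intro g
    rw [Subgroup.normalizer_eq_top]
    exact Subgroup.mem_top g
  have hcop : (Nat.card N).Coprime q :=
    ((Nat.Prime.coprime_iff_not_dvd hq).2 hqN).symm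
  set n : ℕ := m ^ (q + 1) with hn
  -- the generating set
  set X : Set Γ := {x | x ∈ N ∧ q ^ 2 ≤ Nat.card ↥(A ⊓ Subgroup.centralizer {x})} with hX
  -- (1) class sizes of the elements of `X`
  have hcls : ∀ x ∈ X, Nat.card N ≤ n * Nat.card ↥(N ⊓ Subgroup.centralizer {x}) := by
    rintro x ⟨hxN, hxS⟩
    obtain ⟨a, haS, b, hbS, hb1, hab1⟩ := Cfsg.Agent.Helper29.GS.exists_pair hq (A ⊓ Subgroup.centralizer {x})
      (fun s hs => hexp s hs.1) hxS
    have haA : a ∈ A := haS.1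
    have hbA : b ∈ A := hbS.1
    have hxa : Commute a x := Subgroup.mem_centralizer_singleton_iff.1 haS.2
    have hxb : Commute b x := Subgroup.mem_centralizer_singleton_iff.1 hbS.2
    refine Cfsg.Agent.Helper59.GS.card_le_pow_mul_card_centralizer m N (hcomm a haA b hbA) (hexp a haA) (hexp b hbA)
      (hnormN a) (hnormN b) hcop hxN hxa hxb ?_
    intro c hc
    apply hm c
    · rcases hc with rfl | ⟨i, rfl⟩
      · exact hbA
      · exact A.mul_mem haA (A.pow_mem hbA i)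
    · rcases hc with rfl | ⟨i, rfl⟩
      · exact hb1
      · exact hab1 i
  -- (2) the normal set
  set Y₀ : Γ → Set Γ := fun f => {z | z ∈ ⁅N ⊓ Subgroup.centralizer {f}, N ⊓ Subgroup.centralizer {f}⁆ ∧
    Nat.card N ≤ n * n * Nat.card ↥(N ⊓ Subgroup.centralizer {z})} with hY₀
  set Cl : Γ → Set Γ := fun z => {w | ∃ g ∈ N, w = g * z * g⁻¹} with hCl
  set 𝒜 : Set Γ := {f | f ∈ A ∧ f ≠ 1} with h𝒜
  set Y : Set Γ := {w | ∃ f ∈ 𝒜, ∃ z ∈ Y₀ f, w ∈ Cl z} with hY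
  -- (3) `Y` is small
  have hYcard : Y.ncard ≤ q ^ 3 * m * (n * n) := by
    apply Cfsg.Agent.Helper12.GS.ncard_double_union_le 𝒜 Y₀ Cl
    · calc 𝒜.ncard ≤ (A : Set Γ).ncard := Set.ncard_le_ncard (fun f hf => hf.1) (Set.toFinite _)
        _ = q ^ 3 := by rw [← Nat.card_coe_set_eq]; exact hA
    · rintro f ⟨hfA, hf1⟩
      calc (Y₀ f).ncard ≤ ((⁅N ⊓ Subgroup.centralizer {f}, N ⊓ Subgroup.centralizer {f}⁆ : Subgroup Γ) : Set Γ).ncard :=
            Set.ncard_le_ncard (fun z hz => hz.1) (Set.toFinite _)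
        _ = Nat.card ↥⁅N ⊓ Subgroup.centralizer {f}, N ⊓ Subgroup.centralizer {f}⁆ := by
            rw [← Nat.card_coe_set_eq]; rfl
        _ ≤ m := hm f hfA hf1
    · rintro f - z ⟨-, hz⟩
      exact Cfsg.Agent.Helper12.GS.ncard_conj_le N z (n * n) hz
  -- (4) exponent
  have hpow : ∀ y ∈ Y, y ^ m.factorial = 1 := by
    rintro y ⟨f, ⟨hfA, hf1⟩, z, ⟨hzD, -⟩, g, -, rfl⟩
    have hcard := hm f hfA hf1
    have h1 : z ^ Nat.card ↥⁅N ⊓ Subgroup.centralizer {f}, N ⊓ Subgroup.centralizer {f}⁆ = 1 := by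
      have := pow_card_eq_one' (G := ↥⁅N ⊓ Subgroup.centralizer {f}, N ⊓ Subgroup.centralizer {f}⁆)
        (x := ⟨z, hzD⟩)
      exact congrArg Subtype.val this
    obtain ⟨k, hk⟩ := Nat.dvd_factorial Nat.card_pos hcard
    rw [conj_pow, hk, pow_mul, h1, one_pow, mul_one, mul_inv_cancel]
  -- (5) closed under conjugation
  have hYN : ∀ h ∈ N, ∀ y ∈ Y, h * y * h⁻¹ ∈ Y := by
    rintro h hh y ⟨f, hf, z, hz, g, hg, rfl⟩
    refine ⟨f, hf, z, hz, h * g, N.mul_mem hh hg, ?_⟩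
    group
  have hYsub : ∀ y ∈ Y, y ∈ N := by
    rintro y ⟨f, -, z, ⟨hzD, -⟩, g, hg, rfl⟩
    have hzN : z ∈ N :=
      ((Subgroup.commutator_le_self _).trans inf_le_left : ⁅N ⊓ Subgroup.centralizer {f}, N ⊓ Subgroup.centralizer {f}⁆ ≤ N) hzD
    exact N.mul_mem (N.mul_mem hg hzN) (N.inv_mem hg)
  have hconj : ∀ y ∈ Y, ∀ z ∈ Y, y⁻¹ * z * y ∈ Y := by
    intro y hy z hz
    have := hYN y⁻¹ (N.inv_mem (hYsub y hy)) z hz
    rwa [inv_inv] at this
  -- (6) commutators of generators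
  have hXY : ∀ x ∈ X, ∀ y ∈ X, x * y * x⁻¹ * y⁻¹ ∈ Subgroup.closure Y := by
    intro x hx y hy
    apply Subgroup.subset_closure
    obtain ⟨f, hfS, hfT, hf1⟩ := Cfsg.Agent.Helper29.GS.exists_common_ne_one hq A (A ⊓ Subgroup.centralizer {x})
      (A ⊓ Subgroup.centralizer {y}) hA inf_le_left inf_le_left hx.2 hy.2
    have hxf : x ∈ N ⊓ Subgroup.centralizer {f} :=
      ⟨hx.1, Subgroup.mem_centralizer_singleton_iff.2 (Subgroup.mem_centralizer_singleton_iff.1 hfS.2).symm⟩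
    have hyf : y ∈ N ⊓ Subgroup.centralizer {f} :=
      ⟨hy.1, Subgroup.mem_centralizer_singleton_iff.2 (Subgroup.mem_centralizer_singleton_iff.1 hfT.2).symm⟩
    refine ⟨f, ⟨hfS.1, hf1⟩, x * y * x⁻¹ * y⁻¹, ⟨?_, ?_⟩, 1, N.one_mem, by simp⟩
    · have := Subgroup.commutator_mem_commutator hxf hyf
      rwa [commutatorElement_def] at this
    · exact Cfsg.Agent.Helper24.GS.card_le_sq_mul_of_commutator N x y n (hcls x hx) (hcls y hy)
  -- (7) conclusion
  have hnormM := Cfsg.Agent.Helper24.GS.conj_mem_closure N Y hYN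
  have hM : ∀ x ∈ X, ∀ z ∈ Subgroup.closure Y,
      x * z * x⁻¹ ∈ Subgroup.closure Y ∧ x⁻¹ * z * x ∈ Subgroup.closure Y := by
    intro x hx z hz
    refine ⟨hnormM x hx.1 z hz, ?_⟩
    have := hnormM x⁻¹ (N.inv_mem hx.1) z hz
    rwa [inv_inv] at this
  have hcomm_le : ⁅Subgroup.closure X, Subgroup.closure X⁆ ≤ Subgroup.closure Y :=
    Cfsg.Agent.Helper24.GS.commutator_closure_le X (Subgroup.closure Y) hM hXY
  have hgen : N ≤ Subgroup.closure X :=
    Cfsg.Agent.Helper12.GS.le_closure_big_stabilizer_of N A (fun a _ => hnormN a) hqN hcomm hexp hA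
      (fun a ha ha1 => Cfsg.Agent.Helper29.GS.exists_isEA2_disjoint A hcomm hexp hA ha ha1)
  have hle : ⁅N, N⁆ ≤ Subgroup.closure Y :=
    (Subgroup.commutator_mono hgen hgen).trans hcomm_le
  calc Nat.card ↥⁅N, N⁆ ≤ Nat.card ↥(Subgroup.closure Y) := Subgroup.card_le_of_le hle
    _ ≤ (q ^ 3 * m * (n * n) + 1) ^ (q ^ 3 * m * (n * n) * m.factorial) :=
        Cfsg.Agent.Helper46.GS.card_closure_le_of_conj_closed Y _ _ hYcard (Nat.factorial_pos m) hpow hconj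
    _ = gsBound q m := rfl

end Cfsg.Agent.Helper71.GS
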